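import Mathlib
import Cfsg.Agent.Lib.Helper60.OFM.Syl4Defs
import Cfsg.Agent.Lib.Helper87.OHyp.Perp

/-!
# OFM, cut of [SYL4]: leaf [RESTR]

`z' = z π + (1 - π)` with `π` the projection onto `W` along its orthogonal complement.
-/

set_option autoImplicit false

namespace Cfsg.Agent.Lib.Helper76.OFM

open Matrix Cfsg.Agent.Lib.Helper23.OHyp Cfsg.Agent.Lib.Helper60.OFM

universe u

theorem pkgRestr : PkgRestr.{u} := by
  intro F _ _ hodd ι _ _ Q hQ W hW z hz hzW
  classical
  have hTop : Nd Q (⊤ : Submodule F (ι → F)) := by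
    intro w _ hw
    obtain ⟨⟨x, hx⟩, ⟨y, hy⟩⟩ := hQ.nondegenerate w hw
    exact ⟨⟨x, Submodule.mem_top, hx⟩, ⟨y, Submodule.mem_top, hy⟩⟩
  have hInv1 : ∀ U : Submodule F (ι → F), Inv (1 : Matrix ι ι F) U := by
    intro U
    rintro _ ⟨u, hu, rfl⟩
    rw [Matrix.toLin'_apply, Matrix.one_mulVec]
    exact hu
  obtain ⟨W', -, -, -, hperp, hsup, -⟩ := Cfsg.Agent.Lib.Helper87.OHyp.pkgPerp F ι Q hQ 1
    (fun v => by rw [Matrix.one_mulVec]) (by rw [Matrix.det_one]; exact isUnit_one) ⊤ W le_top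
    (hInv1 ⊤) (hInv1 W) hTop hW
  have hdisj : Disjoint W W' := by
    rw [Submodule.disjoint_def]
    intro v hvA hvB
    by_contra hv
    obtain ⟨⟨x, hx, hxv⟩, _⟩ := hW v hvA hv
    exact hxv (hperp x hx v hvB)
  have hc : IsCompl W W' := ⟨hdisj, codisjoint_iff.mpr hsup⟩
  let π : (ι → F) →ₗ[F] (ι → F) := W.projection W' hc
  have hπW : ∀ v, π v ∈ W := fun v => Submodule.projection_apply_mem hc v
  have hπW' : ∀ v, v - π v ∈ W' := by
    intro v
    have h1 := Submodule.projection_add_projection_eq_self hc v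
    have h2 : v - π v = W'.projection W hc.symm v := by
      rw [sub_eq_iff_eq_add]
      nth_rw 1 [← h1]
      rw [add_comm]
    rw [h2]
    exact Submodule.projection_apply_mem hc.symm v
  have hπ_of_mem : ∀ w ∈ W, π w = w := fun w hw => Submodule.projection_apply_of_mem_left hc hw
  have hπ_of_mem' : ∀ u ∈ W', π u = 0 :=
    fun u hu => Submodule.projection_apply_of_mem_right hc hu
  let Pm : Matrix ι ι F := LinearMap.toMatrix' π
  have hPm : ∀ v, Pm *ᵥ v = π v := by
    intro v
    rw [← Matrix.toLin'_apply, Matrix.toLin'_toMatrix']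
  let z' : Matrix ι ι F := z * Pm + (1 - Pm)
  have hz' : ∀ v, z' *ᵥ v = z *ᵥ (π v) + (v - π v) := by
    intro v
    show (z * Pm + (1 - Pm)) *ᵥ v = _
    rw [Matrix.add_mulVec, ← Matrix.mulVec_mulVec, Matrix.sub_mulVec, Matrix.one_mulVec, hPm]
  have hQadd : ∀ a b : ι → F, Q (a + b) = Q a + Q b + QuadraticMap.polar Q a b := by
    intro a b
    unfold QuadraticMap.polar
    ring
  refine ⟨z', ?_, ?_, ?_⟩
  · intro v
    rw [hz', hQadd, hperp _ (hzW _ (hπW v)) _ (hπW' v), add_zero, hz]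
    have h1 := hQadd (π v) (v - π v)
    rw [hperp _ (hπW v) _ (hπW' v), add_zero, add_sub_cancel] at h1
    exact h1.symm
  · intro w hw
    rw [hz', hπ_of_mem w hw, sub_self, add_zero]
  · intro n hn
    have hzn : ∀ k : ℕ, ∀ w ∈ W, (z ^ k) *ᵥ w ∈ W := by
      intro k
      induction k with
      | zero =>
        intro w hw
        rw [pow_zero, Matrix.one_mulVec]
        exact hw
      | succ k ih =>
        intro w hw
        rw [pow_succ', ← Matrix.mulVec_mulVec]
        exact hzW _ (ih w hw)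
    have hpow : ∀ k : ℕ, ∀ v, (z' ^ k) *ᵥ v = (z ^ k) *ᵥ (π v) + (v - π v) := by
      intro k
      induction k with
      | zero =>
        intro v
        rw [pow_zero, pow_zero, Matrix.one_mulVec, Matrix.one_mulVec, add_sub_cancel]
      | succ k ih =>
        intro v
        rw [pow_succ', ← Matrix.mulVec_mulVec, ih, hz', map_add,
          hπ_of_mem _ (hzn k _ (hπW v)), hπ_of_mem' _ (hπW' v), add_zero, add_sub_cancel_left,
          pow_succ', ← Matrix.mulVec_mulVec]
    apply Matrix.toLin'.injective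
    apply LinearMap.ext
    intro v
    rw [Matrix.toLin'_apply, Matrix.toLin'_apply, Matrix.one_mulVec, hpow, hn _ (hπW v),
      add_sub_cancel]

end Cfsg.Agent.Lib.Helper76.OFM
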